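import Cfsg.Agent.Lib.Recog.HsTwoLocal.Certs.CTab.Tree0
import Cfsg.Agent.Lib.Recog.HsTwoLocal.Certs.CTab.Tree1
import Cfsg.Agent.Lib.Recog.HsTwoLocal.Certs.CTab.Tree2
import Cfsg.Agent.Lib.Recog.HsTwoLocal.Certs.CTab.Tree3
import Cfsg.Agent.Lib.Recog.HsTwoLocal.Certs.CTab.Tree4
import Cfsg.Agent.Lib.Recog.HsTwoLocal.Certs.CTab.Tree5
import Cfsg.Agent.Lib.Recog.HsTwoLocal.Certs.CTab.Tree6
import Cfsg.Agent.Lib.Recog.HsTwoLocal.Certs.CTab.Tree7

set_option autoImplicit false
set_option maxRecDepth 20000

/-! Generated certificate: the involution centraliser (tools/cosetbound/gen_pairs.py; owner: helper21). -/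

namespace CfsgLib.Recog.HsTwoLocal.Certs.CTab
open CfsgLib.Recog.SporBound (Q)

noncomputable def factTree : Q (ℕ) := (.node (.node (.node ft8 ft16 ft24 ft32) (.node ft41 ft49 ft57 ft65) (.node ft73 ft81 ft89 ft97) (.node ft105 ft113 ft121 ft129)) (.node (.node ft138 ft146 ft154 ft162) (.node ft170 ft178 ft186 ft194) (.node ft202 ft210 ft218 ft226) (.node ft234 ft242 ft250 ft258)) (.node (.node ft267 ft275 ft283 ft291) (.node ft299 ft307 ft315 ft323) (.node ft331 ft339 ft347 ft355) (.node ft363 ft371 ft379 ft387)) (.node (.node ft396 ft404 ft412 ft420) (.node ft428 ft436 ft444 ft452) (.node ft460 ft468 ft476 ft484) (.node ft492 ft500 ft508 ft516)))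
noncomputable def nodeTree : Q (ℕ) := (.node ct15 ct31 ct47 ct63)
noncomputable def stepTree : Q (List ℕ) := (.node (.node (.node st12 st25 st38 st50) (.node st63 st76 st89 st101) (.node st114 st127 st140 st152) (.node st165 st178 st191 st203)) (.node (.node st216 st229 st242 st254) (.node st267 st280 st293 st305) (.node st318 st331 st344 st356) (.node st369 st382 st394 st406)) (.node (.node st419 st432 st445 st457) (.node st470 st483 st496 st508) (.node st521 st534 st547 st559) (.node st572 st585 st597 st609)) (.node (.node st622 st635 st648 st660) (.node st673 st686 st699 st711) (.node st724 st737 st750 st762) (.node st775 st788 st800 st812)))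
noncomputable def finalTree : Q (List ℕ) := (.node (.node (.node et14 et28 et42 et56) (.node et71 et85 et99 et113) (.node et127 et141 et155 et169) (.node et183 et197 et211 et225)) (.node (.node et240 et254 et268 et282) (.node et297 et311 et325 et339) (.node et353 et367 et381 et395) (.node et409 et423 et437 et451)) (.node (.node et466 et480 et494 et508) (.node et523 et537 et551 et565) (.node et579 et593 et607 et621) (.node et635 et649 et663 et677)) (.node (.node et692 et706 et720 et734) (.node et749 et763 et777 et791) (.node et805 et819 et833 et847) (.node et861 et875 et889 et903)))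

/-- The certificate. -/
noncomputable def cert : CfsgLib.Sporadic.PairEnum.Cert where
  n := 7680
  nd := 10031
  nf := 57945
  nl := 14
  kl := [0, 2, 4, 6, 8, 10, 12]
  facts := factTree
  cn := nodeTree
  steps := stepTree
  finals := finalTree
  rels := [[0, 0, 0, 0],
    [2, 2, 2, 2],
    [4, 4, 4, 4],
    [3, 1, 2, 0],
    [5, 1, 4, 0],
    [5, 3, 4, 2],
    [6, 6, 6],
    [8, 8],
    [10, 10],
    [6, 9, 6, 8],
    [5, 7, 2, 6],
    [4, 2, 1, 7, 4, 6],
    [4, 9, 2, 8],
    [7, 11, 6, 9, 10, 8],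
    [6, 11, 7, 7, 10, 6, 10],
    [11, 5, 2, 2, 1, 10, 5],
    [12, 12, 12, 12, 12],
    [1, 13, 0, 12],
    [11, 13, 2, 2, 12],
    [6, 11, 7, 13, 4, 4, 12],
    [7, 4, 11, 5, 6, 13, 10, 12],
    [6, 4, 11, 7, 2, 1, 13, 7, 10, 6, 12],
    [6, 5, 11, 7, 3, 13, 13, 2, 6, 10, 4, 7, 9, 6, 3, 12, 2, 7, 8],
    [5, 6, 4, 11, 13, 13, 13, 2, 12]]
  subs := []

/-- Traced words with their chains. -/
noncomputable def closers : List (List ℕ × ℕ) :=
  []

end CfsgLib.Recog.HsTwoLocal.Certs.CTab
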